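/-
In characteristic two an isometry lies in the commutator subgroup exactly when `g - 1` has even rank.
-/
import Cfsg.Agent.Quad.Parity
import Cfsg.Agent.Quad.Matrices
import Cfsg.Agent.Quad.Concrete

set_option autoImplicit false

namespace CfsgLib.ParityRank

open QuadraticMap CfsgLib.Forms CfsgLib.Quad Matrix

variable {F V : Type*} [Field F] [Finite F] [CharP F 2] [AddCommGroup V] [Module F V]
  [FiniteDimensional F V] {Q : QuadraticForm F V}

theorem mem_commutator_iff (hQ : (polarBilin Q).Nondegenerate) (hdim : Module.finrank F V ≠ 4)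
    (g : oGroup Q) :
    g ∈ commutator (oGroup Q) ↔ Even (Module.finrank F V + Module.finrank F (fixSp g)) := by
  obtain ⟨ε, hε⟩ := exists_parity hQ (Or.inr hdim)
  rw [commutator_char_two hQ (Or.inr hdim) hε, MonoidHom.mem_ker]
  have hg : g ∈ reflGroup Q := by rw [reflGroup_eq_top hQ (Or.inr hdim)]; trivial
  have key : ∀ y : oGroup Q, y ∈ reflGroup Q →
      ε y = (-1) ^ (Module.finrank F V + Module.finrank F (fixSp y)) := by
    intro y hy
    induction hy using Subgroup.closure_induction_left with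
    | one =>
      have htop : fixSp (1 : oGroup Q) = ⊤ := Submodule.eq_top_iff'.mpr fun x => mem_fixSp.mpr rfl
      rw [map_one, htop, finrank_top]
      exact (Even.neg_one_pow ⟨_, rfl⟩).symm
    | mul_left x hx z _ hz =>
      obtain ⟨d, rfl⟩ := hx
      by_cases hd : Q d = 0
      · rwa [refl_eq_one hd, one_mul]
      · rw [map_mul, hε d hd, hz]
        rcases finrank_fixSp_refl_mul hQ z hd with h | h
        · rw [h, ← Nat.add_assoc, pow_succ, mul_comm]
        · rw [← h, ← Nat.add_assoc, pow_succ]; simp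
    | inv_mul_cancel x hx z _ hz =>
      obtain ⟨d, rfl⟩ := hx
      rw [refl_inv]
      by_cases hd : Q d = 0
      · rwa [refl_eq_one hd, one_mul]
      · rw [map_mul, hε d hd, hz]
        rcases finrank_fixSp_refl_mul hQ z hd with h | h
        · rw [h, ← Nat.add_assoc, pow_succ, mul_comm]
        · rw [← h, ← Nat.add_assoc, pow_succ]; simp
  rw [key g hg]
  exact neg_one_pow_eq_one_iff_even (by decide)

theorem mem_Omega_iff {ι : Type} [Fintype ι] [DecidableEq ι] (Q : QuadraticForm F (ι → F))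
    (hQ : (polarBilin Q).Nondegenerate) (hdim : Fintype.card ι ≠ 4) (g : Cfsg.isometryGroup F ⇑Q) :
    g ∈ Cfsg.Omega F ⇑Q ↔ Even (((g : GL ι F) : Matrix ι ι F) - 1).rank := by
  have h1 : g ∈ Cfsg.Omega F ⇑Q ↔ isoGroupEquiv Q g ∈ commutator (oGroup Q) := by
    rw [← commutator_map_equiv (isoGroupEquiv Q)]
    exact (Subgroup.mem_map_iff_mem (isoGroupEquiv Q).injective).symm
  rw [h1, mem_commutator_iff hQ (by rwa [Module.finrank_fintype_fun_eq_card])]
  have h2 : fixSp (isoGroupEquiv Q g) =
      LinearMap.ker (((g : GL ι F) : Matrix ι ι F) - 1).mulVecLin := by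
    ext x
    rw [mem_fixSp, isoGroupEquiv_apply, LinearMap.mem_ker, mulVecLin_apply, sub_mulVec, one_mulVec,
      sub_eq_zero]
  have h3 := LinearMap.finrank_range_add_finrank_ker (((g : GL ι F) : Matrix ι ι F) - 1).mulVecLin
  rw [h2, Matrix.rank]
  set r := Module.finrank F (LinearMap.range (((g : GL ι F) : Matrix ι ι F) - 1).mulVecLin)
  set k := Module.finrank F (LinearMap.ker (((g : GL ι F) : Matrix ι ι F) - 1).mulVecLin)
  rw [← h3, add_assoc, Nat.even_add]
  simp

theorem mem_Omega_of_coe {ι : Type} [Fintype ι] [DecidableEq ι] {Q₀ : (ι → F) → F}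
    (Q : QuadraticForm F (ι → F)) (e : ⇑Q = Q₀) (hQ : (polarBilin Q).Nondegenerate)
    (hdim : Fintype.card ι ≠ 4) (g : Cfsg.isometryGroup F Q₀) :
    g ∈ Cfsg.Omega F Q₀ ↔ Even (((g : GL ι F) : Matrix ι ι F) - 1).rank := by
  subst e
  exact mem_Omega_iff Q hQ hdim g

end CfsgLib.ParityRank
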