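/-
Involution classes of orthogonal groups in characteristic two: behaviour under the commutator subgroup.
-/
import Cfsg.Agent.Quad.ClassAction
import Cfsg.Agent.Quad.Matrices
import Cfsg.Agent.Quad.Concrete
import Cfsg.Agent.Quad.PerpSpace

set_option autoImplicit false

namespace CfsgLib.ParityRank

open QuadraticMap CfsgLib.Forms CfsgLib.Quad Matrix Module

variable {F V : Type*} [Field F] [Finite F] [CharP F 2] [AddCommGroup V] [Module F V]
  [FiniteDimensional F V] {Q : QuadraticForm F V}

/-- `g - 1` as a linear map. -/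
abbrev devMap (t : oGroup Q) : V →ₗ[F] V := t.1.toLinearMap - LinearMap.id

lemma devMap_sq {t : oGroup Q} (ht : t * t = 1) (x : V) : devMap t (devMap t x) = 0 := by
  have h : t.1 (t.1 x) = x := by
    have := congrArg (fun g : oGroup Q => g.1 x) ht
    exact this
  haveI : CharP F 2 := inferInstance
  simp only [LinearMap.sub_apply, LinearEquiv.coe_coe, LinearMap.id_apply, map_sub, h]
  have h2 : (2 : F) = 0 := CharTwo.two_eq_zero
  calc x - t.1 x - (t.1 x - x) = (2 : F) • (x - t.1 x) := by module
    _ = 0 := by rw [h2, zero_smul]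

lemma range_devMap_le {t : oGroup Q} (ht : t * t = 1) :
    LinearMap.range (devMap t) ≤ fixSp t := by
  rintro _ ⟨x, rfl⟩
  exact LinearMap.mem_ker.2 (devMap_sq ht x)

lemma finrank_devMap (t : oGroup Q) :
    finrank F (LinearMap.range (devMap t)) + finrank F (fixSp t) = finrank F V :=
  LinearMap.finrank_range_add_finrank_ker (devMap t)

/-- If the fixed space has an anisotropic vector, conjugacy can be realised in the commutator subgroup. -/
theorem exists_conj_of_aniso (hQ : (polarBilin Q).Nondegenerate) (hdim : finrank F V ≠ 4)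
    {t s g : oGroup Q} (hg : g * t * g⁻¹ = s) {d : V} (hd : d ∈ fixSp t) (hQd : Q d ≠ 0) :
    ∃ g' ∈ commutator (oGroup Q), g' * t * g'⁻¹ = s := by
  obtain ⟨vs, hvs, rfl⟩ := exists_reflProd hQ (Or.inr hdim) g
  have hcr : t * refl Q d = refl Q d * t := by
    have := refl_conj t d
    rw [mem_fixSp.1 hd] at this
    rwa [mul_inv_eq_iff_eq_mul] at this
  rcases Nat.even_or_odd vs.length with he | ho
  · exact ⟨_, (reflProd_mem_commutator_iff hQ (Or.inr hdim) hvs).2 ⟨he, isSquare_char_two _⟩, hg⟩
  · refine ⟨reflProd Q (vs ++ [d]), (reflProd_mem_commutator_iff hQ (Or.inr hdim)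
      (List.forall_mem_append.2 ⟨hvs, by simpa using hQd⟩)).2
      ⟨by rw [List.length_append]; exact ho.add_odd (by simp), isSquare_char_two _⟩, ?_⟩
    rw [reflProd_append, reflProd_cons, reflProd_nil, mul_one, _root_.mul_inv_rev, refl_inv,
      ← hg]
    calc reflProd Q vs * refl Q d * t * (refl Q d * (reflProd Q vs)⁻¹)
        = reflProd Q vs * (refl Q d * t * refl Q d) * (reflProd Q vs)⁻¹ := by
          simp only [mul_assoc]
      _ = reflProd Q vs * t * (reflProd Q vs)⁻¹ := by
          rw [← hcr, mul_assoc t, refl_mul_self, mul_one]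

/-- An involution whose fixed space is totally singular. -/
theorem half_of_singular (hQ : (polarBilin Q).Nondegenerate) {m : ℕ} (hV : finrank F V = 2 * m)
    {t : oGroup Q} (ht : t * t = 1) (hfix : ∀ d ∈ fixSp t, Q d = 0) :
    CfsgLib.Linear.MaxSing.IsMax Q m (fixSp t) ∧ LinearMap.range (devMap t) = fixSp t := by
  have h1 := finrank_devMap t
  have h2 := Submodule.finrank_mono (range_devMap_le ht)
  have h3 := finrank_le_of_singular hQ hfix
  exact ⟨⟨by omega, hfix⟩, Submodule.eq_of_le_of_finrank_eq (range_devMap_le ht) (by omega)⟩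

/-- The two classes of maximal totally singular subspaces. -/
theorem conj_iff (hQ : (polarBilin Q).Nondegenerate) (hdim : finrank F V ≠ 4) {m : ℕ}
    (hV : finrank F V = 2 * m) (hm : Even m) {t s g : oGroup Q} (hg : g * t * g⁻¹ = s)
    (hU : CfsgLib.Linear.MaxSing.IsMax Q m (LinearMap.range (devMap t))) :
    (∃ g' ∈ commutator (oGroup Q), g' * t * g'⁻¹ = s) ↔
      Even (finrank F ↥(LinearMap.range (devMap t) ⊓ LinearMap.range (devMap s))) := by
  have himg : ∀ g' : oGroup Q, g' * t * g'⁻¹ = s →
      LinearMap.range (devMap s) = (LinearMap.range (devMap t)).map g'.1.toLinearMap := by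
    intro g' h
    have key : ∀ x, devMap s (g'.1 x) = g'.1 (devMap t x) := by
      intro x
      simp only [LinearMap.sub_apply, LinearEquiv.coe_coe, LinearMap.id_apply, map_sub, ← h]
      congr 1
      show g'.1 (t.1 (g'.1.symm (g'.1 x))) = _
      rw [LinearEquiv.symm_apply_apply]
    ext y
    constructor
    · rintro ⟨x, rfl⟩
      exact ⟨devMap t (g'.1.symm x), ⟨_, rfl⟩, by
        show g'.1 (devMap t (g'.1.symm x)) = _
        rw [← key, LinearEquiv.apply_symm_apply]⟩
    · rintro ⟨_, ⟨x, rfl⟩, rfl⟩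
      exact ⟨g'.1 x, key x⟩
  have key : ∀ vs : List V, (∀ v ∈ vs, Q v ≠ 0) → reflProd Q vs * t * (reflProd Q vs)⁻¹ = s →
      (Even (finrank F ↥(LinearMap.range (devMap t) ⊓ LinearMap.range (devMap s))) ↔ Even vs.length) := by
    intro vs hvs h
    rw [himg _ h, ← even_codim_iff hQ hV hU hvs]
    have hle : finrank F ↥(LinearMap.range (devMap t) ⊓
        (LinearMap.range (devMap t)).map (reflProd Q vs).1.toLinearMap) ≤ m := by
      have := Submodule.finrank_mono (inf_le_left :
        LinearMap.range (devMap t) ⊓ (LinearMap.range (devMap t)).map (reflProd Q vs).1.toLinearMap ≤ _)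
      rw [hU.1] at this
      exact this
    rw [Nat.even_sub hle]
    simp [hm]
  constructor
  · rintro ⟨g', hg', h⟩
    obtain ⟨vs, hvs, rfl⟩ := exists_reflProd hQ (Or.inr hdim) g'
    exact (key vs hvs h).2 ((reflProd_mem_commutator_iff hQ (Or.inr hdim) hvs).1 hg').1
  · intro he
    obtain ⟨vs, hvs, rfl⟩ := exists_reflProd hQ (Or.inr hdim) g
    exact ⟨_, (reflProd_mem_commutator_iff hQ (Or.inr hdim) hvs).2
      ⟨(key vs hvs hg).1 he, isSquare_char_two _⟩, hg⟩

omit [CharP F 2] in
theorem minus_no_half {a b : F} (hab : ∀ z₁ z₂ : F, z₁ ^ 2 + a * z₁ * z₂ + b * z₂ ^ 2 = 0 → z₁ = 0 ∧ z₂ = 0)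
    {m : ℕ} (W : Submodule F ((Fin m ⊕ Fin m) ⊕ Fin 2 → F)) (hW : ∀ w ∈ W, minusQ m a b w = 0) :
    finrank F W < m + 1 := by
  classical
  by_contra hlt
  have hQ := minusQ_nondeg hab m
  have hVdim : finrank F ((Fin m ⊕ Fin m) ⊕ Fin 2 → F) = 2 * m + 2 := by simp; omega
  have hle := finrank_le_of_singular hQ hW
  have hWdim : finrank F W = m + 1 := by omega
  let f : (Fin m → F) →ₗ[F] ((Fin m ⊕ Fin m) ⊕ Fin 2 → F) :=
    { toFun := fun x => Sum.elim (Sum.elim x 0) 0
      map_add' := fun x y => by funext i; rcases i with (i | i) | i <;> simp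
      map_smul' := fun c x => by funext i; rcases i with (i | i) | i <;> simp }
  have hf : Function.Injective f := fun x y h => funext fun i => congrFun h (.inl (.inl i))
  set U := LinearMap.range f with hUdef
  have hUdim : finrank F U = m := by
    rw [hUdef, LinearMap.finrank_range_of_inj hf]; simp
  have hperp : perpS (minusQ m a b) W = W := by
    symm
    refine Submodule.eq_of_le_of_finrank_eq (fun x hx h hh => ?_) ?_
    · rw [polar, hW _ (add_mem hh hx), hW h hh, hW x hx]; ring
    · have := finrank_perpS hQ W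
      omega
  have hy : ∀ v ∈ perpS (minusQ m a b) U, ∀ i, v (.inl (.inr i)) = 0 := by
    intro v hv i
    have h1 := mem_perpS.1 hv (f (Pi.single i 1)) ⟨_, rfl⟩
    rw [polar, minusQ_coe] at h1
    simp [f, Cfsg.quadFormMinus, Finset.sum_add_distrib, add_mul, Pi.single_apply] at h1
    linear_combination h1
  have hsub : W ⊓ perpS (minusQ m a b) U ≤ W ⊓ U := by
    rintro v ⟨hvW, hvU⟩
    refine ⟨hvW, ⟨fun i => v (.inl (.inl i)), ?_⟩⟩
    have h0 := hW v hvW
    rw [minusQ_coe] at h0
    simp [Cfsg.quadFormMinus, hy v hvU] at h0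
    obtain ⟨z1, z2⟩ := hab (v (.inr 0)) (v (.inr 1)) (by linear_combination h0)
    funext k
    rcases k with (k | k) | k
    · rfl
    · exact (hy v hvU k).symm
    · fin_cases k
      · exact z1.symm
      · exact z2.symm
  have hsup : perpS (minusQ m a b) (W ⊔ U) ≤ W ⊓ perpS (minusQ m a b) U := by
    intro x hx
    refine ⟨?_, mem_perpS.2 fun h hh => mem_perpS.1 hx h (Submodule.mem_sup_right hh)⟩
    rw [← hperp]
    exact mem_perpS.2 fun h hh => mem_perpS.1 hx h (Submodule.mem_sup_left hh)
  have h1 := Submodule.finrank_mono (hsup.trans hsub)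
  have h2 := finrank_perpS hQ (W ⊔ U)
  have h3 := Submodule.finrank_sup_add_finrank_inf_eq W U
  omega

end CfsgLib.ParityRank
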