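/-
Involution classes in characteristic two, matrix form.
-/
import Cfsg.Agent.ParityRank.Basic
import Cfsg.Agent.ParityRank.Split

set_option autoImplicit false

namespace CfsgLib.ParityRank

open QuadraticMap CfsgLib.Forms CfsgLib.Quad Matrix Module

variable {F : Type*} [Field F] [Finite F] [CharP F 2] {ι : Type} [Fintype ι] [DecidableEq ι]

theorem exists_conj_omega {Q₀ : (ι → F) → F} (Q : QuadraticForm F (ι → F)) (e : ⇑Q = Q₀)
    (hQ : (polarBilin Q).Nondegenerate) (hdim : Fintype.card ι ≠ 4) {m : ℕ} (hcard : Fintype.card ι = 2 * m)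
    (t s : Cfsg.isometryGroup F Q₀) (ht : orderOf t = 2) (hconj : IsConj t s)
    (hsing : ¬ ((((t : GL ι F) : Matrix ι ι F) - 1).rank = m ∧
        ∀ v : ι → F, Q₀ (v + ((t : GL ι F) : Matrix ι ι F) *ᵥ v) = 0) ∨
      ∀ W : Submodule F (ι → F), (∀ w ∈ W, Q₀ w = 0) → finrank F W < m) :
    ∃ g ∈ Cfsg.Omega F Q₀, g * t * g⁻¹ = s := by
  subst e
  obtain ⟨g, hg⟩ := isConj_iff.1 hconj
  have hdim' : finrank F (ι → F) ≠ 4 := by rwa [Module.finrank_fintype_fun_eq_card]
  have hV : finrank F (ι → F) = 2 * m := by rwa [Module.finrank_fintype_fun_eq_card]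
  set E := isoGroupEquiv Q with hE
  have ht2 : E t * E t = 1 := by
    rw [← map_mul, ← _root_.sq, ← ht, pow_orderOf_eq_one, map_one]
  have hg' : E g * E t * (E g)⁻¹ = E s := by rw [← map_mul, ← map_inv, ← map_mul, hg]
  obtain ⟨d, hd, hQd⟩ : ∃ d ∈ fixSp (E t), Q d ≠ 0 := by
    by_contra hc
    push Not at hc
    obtain ⟨hU, hr⟩ := half_of_singular hQ hV ht2 hc
    rcases hsing with h | h
    · refine h ⟨?_, fun v => ?_⟩
      · have hdev : (((t : GL ι F) : Matrix ι ι F) - 1).mulVecLin = devMap (E t) := by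
          refine LinearMap.ext fun x => ?_
          rw [mulVecLin_apply, sub_mulVec, one_mulVec]
          rfl
        rw [Matrix.rank, ← hU.1, ← hr, hdev]
      · refine hc _ (hr ▸ ⟨v, ?_⟩)
        show (E t).1 v - v = _
        rw [isoGroupEquiv_apply, sub_eq_add_neg, add_comm]
        congr 1
        funext i
        exact CharTwo.neg_eq (v i)
    · exact absurd hU.1 (Nat.ne_of_lt (h _ hc))
  obtain ⟨g', hg'', h⟩ := exists_conj_of_aniso hQ hdim' hg' hd hQd
  refine ⟨E.symm g', ?_, E.injective ?_⟩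
  · rw [mem_omega_iff, MulEquiv.apply_symm_apply]; exact hg''
  · rw [map_mul, map_mul, map_inv, MulEquiv.apply_symm_apply, h]

theorem conj_omega_iff {Q₀ : (ι → F) → F} (Q : QuadraticForm F (ι → F)) (e : ⇑Q = Q₀)
    (hQ : (polarBilin Q).Nondegenerate) (hdim : Fintype.card ι ≠ 4) {m : ℕ} (hcard : Fintype.card ι = 2 * m)
    (t s : Cfsg.isometryGroup F Q₀) (hconj : IsConj t s) (htO : t ∈ Cfsg.Omega F Q₀)
    (hrank : (((t : GL ι F) : Matrix ι ι F) - 1).rank = m)
    (hzero : ∀ v : ι → F, Q₀ (v + ((t : GL ι F) : Matrix ι ι F) *ᵥ v) = 0) :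
    (∃ g ∈ Cfsg.Omega F Q₀, g * t * g⁻¹ = s) ↔
      Even (finrank F ↥(LinearMap.range (Matrix.toLin' (((t : GL ι F) : Matrix ι ι F) - 1)) ⊓
        LinearMap.range (Matrix.toLin' (((s : GL ι F) : Matrix ι ι F) - 1)))) := by
  subst e
  obtain ⟨g, hg⟩ := isConj_iff.1 hconj
  have hdim' : finrank F (ι → F) ≠ 4 := by rwa [Module.finrank_fintype_fun_eq_card]
  have hV : finrank F (ι → F) = 2 * m := by rwa [Module.finrank_fintype_fun_eq_card]
  set E := isoGroupEquiv Q with hE
  have hg' : E g * E t * (E g)⁻¹ = E s := by rw [← map_mul, ← map_inv, ← map_mul, hg]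
  have hdev : ∀ u : Cfsg.isometryGroup F ⇑Q,
      Matrix.toLin' (((u : GL ι F) : Matrix ι ι F) - 1) = devMap (E u) := fun u => by
    refine LinearMap.ext fun x => ?_
    rw [Matrix.toLin'_apply, sub_mulVec, one_mulVec]
    rfl
  rw [hdev t, hdev s]
  have hm : Even m := by rw [← hrank]; exact (mem_Omega_iff Q hQ hdim t).1 htO
  have hU : CfsgLib.Linear.MaxSing.IsMax Q m (LinearMap.range (devMap (E t))) := by
    refine ⟨?_, ?_⟩
    · rw [← hdev t]; exact hrank
    · rintro _ ⟨v, rfl⟩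
      rw [← hdev t, Matrix.toLin'_apply, sub_mulVec, one_mulVec]
      have h := hzero v
      rw [add_comm] at h
      convert h using 2
      rw [sub_eq_add_neg]
      congr 1
      funext i
      exact CharTwo.neg_eq (v i)
  rw [← conj_iff hQ hdim' hV hm hg' hU]
  constructor
  · rintro ⟨g', h1, h2⟩
    exact ⟨E g', (mem_omega_iff Q g').1 h1, by rw [← map_mul, ← map_inv, ← map_mul, h2]⟩
  · rintro ⟨g', h1, h2⟩
    refine ⟨E.symm g', ?_, E.injective ?_⟩
    · rw [mem_omega_iff, MulEquiv.apply_symm_apply]; exact h1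
    · rw [map_mul, map_mul, map_inv, MulEquiv.apply_symm_apply, h2]

end CfsgLib.ParityRank
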